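import Cfsg.Agent.Lib.Golay.Code
import Cfsg.Agent.Lib.Leech.CodeSets

/-!
Permutations of the 24 points acting on 24-bit masks, by linear tables.
-/

set_option autoImplicit false

namespace Cfsg.Agent.Lib.GolayPerm

open Cfsg Cfsg.Agent.Lib.Golay

theorem xor_induction {P : ℕ → Prop} (h0 : P 0) (hx : ∀ a b, P a → P b → P (a ^^^ b)) :
    ∀ n, (∀ i < n, P (2 ^ i)) → ∀ m < 2 ^ n, P m := by
  intro n
  induction n with
  | zero => intro _ m hm; simp at hm; subst hm; exact h0
  | succ n ih =>
    intro hb m hm
    by_cases h : m < 2 ^ n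
    · exact ih (fun i hi => hb i (by omega)) _ h
    · have htop : m.testBit n = true := by
        rw [Nat.testBit_eq_decide_div_mod_eq]
        have hdiv : m / 2 ^ n = 1 := by
          apply Nat.div_eq_of_lt_le <;> rw [pow_succ] at hm <;> omega
        simp [hdiv]
      have hlt : m ^^^ 2 ^ n < 2 ^ n := by
        refine Nat.lt_pow_two_of_testBit _ fun i hi => ?_
        rw [Nat.testBit_xor, Nat.testBit_two_pow]
        rcases eq_or_lt_of_le hi with rfl | hgt
        · simp [htop]
        · simp [Nat.testBit_lt_two_pow (hm.trans_le (Nat.pow_le_pow_right (by norm_num) hgt)), hgt.ne]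
      have := hx _ _ (hb n (by omega)) (ih (fun i hi => hb i (by omega)) _ hlt)
      rwa [Nat.xor_comm m, ← Nat.xor_assoc, Nat.xor_self, Nat.zero_xor] at this

/-- Every word is the word of a mask below `2 ^ 24`. -/
theorem exists_mask (w : GolayPt → ZMod 2) : ∃ m < 2 ^ 24, w = wordOfMask m := by
  classical
  have key : ∀ S : Finset GolayPt, ∃ m < 2 ^ 24,
      (fun p => if p ∈ S then (1 : ZMod 2) else 0) = wordOfMask m := by
    intro S
    induction S using Finset.induction_on with
    | empty => exact ⟨0, by norm_num, by rw [wordOfMask_zero]; funext p; simp⟩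
    | insert a S ha ih =>
      obtain ⟨m, hm, he⟩ := ih
      refine ⟨2 ^ idx a ^^^ m, Nat.xor_lt_two_pow (Nat.pow_lt_pow_right (by norm_num) (idx_lt a)) hm, ?_⟩
      rw [wordOfMask_xor, ← he]
      funext p
      by_cases hp : p = a
      · subst hp; simp [ha, wordOfMask]
      · simp [hp, wordOfMask, Nat.testBit_two_pow, idx_injective.ne (Ne.symm hp)]
  obtain ⟨m, hm, he⟩ := key (support₂ w)
  refine ⟨m, hm, ?_⟩
  rw [← he]
  funext p
  rcases Cfsg.Agent.Lib.Leech.zmod2_cases (w p) with h | h <;> simp [support₂, h]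

/-! ### linear tables -/

theorem combine_pow (rs : List ℕ) : ∀ i, i < rs.length → combine rs (2 ^ i) = rs.getD i 0 := by
  induction rs with
  | nil => intro i hi; simp at hi
  | cons r rs ih =>
    intro i hi
    cases i with
    | zero => simp [combine, combine_zero]
    | succ i =>
      simp only [List.length_cons, Nat.add_lt_add_iff_right] at hi
      have h1 : 2 ^ (i + 1) % 2 = 0 := by rw [pow_succ]; simp
      have h2 : 2 ^ (i + 1) / 2 = 2 ^ i := by rw [pow_succ]; simp
      simp [combine, h1, h2, ih i hi]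

theorem combine_lt {n : ℕ} : ∀ (rs : List ℕ) (k : ℕ), (∀ r ∈ rs, r < 2 ^ n) → combine rs k < 2 ^ n
  | [], k, _ => by simp [combine]
  | r :: rs, k, h => by
    rw [combine]
    refine Nat.xor_lt_two_pow ?_ (combine_lt rs _ fun s hs => h s (List.mem_cons_of_mem _ hs))
    split
    · exact h r List.mem_cons_self
    · positivity

/-- `tbl` is the table of the permutation `σ`. -/
def IsTable (σ : Equiv.Perm GolayPt) (tbl : List ℕ) : Prop :=
  tbl.length = 24 ∧ ∀ i < 24, tbl.getD i 0 = 2 ^ idx (σ (pt i))

/-- Action on masks through a table. -/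
def act (tbl : List ℕ) (m : ℕ) : ℕ := combine tbl m

theorem act_xor (tbl : List ℕ) (a b : ℕ) : act tbl (a ^^^ b) = act tbl a ^^^ act tbl b := combine_xor tbl a b

theorem wordOfMask_two_pow (q : GolayPt) : wordOfMask (2 ^ idx q) = fun p => if p = q then 1 else 0 := by
  funext p
  by_cases h : p = q
  · subst h; simp [wordOfMask]
  · simp [wordOfMask, Nat.testBit_two_pow, h, idx_injective.ne (Ne.symm h)]

theorem wordOfMask_act {σ : Equiv.Perm GolayPt} {tbl : List ℕ} (h : IsTable σ tbl) {m : ℕ} (hm : m < 2 ^ 24) :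
    wordOfMask (act tbl m) = fun p => wordOfMask m (σ.symm p) := by
  refine xor_induction (P := fun m => wordOfMask (act tbl m) = fun p => wordOfMask m (σ.symm p)) ?_ ?_ 24 ?_ m hm
  · funext p; simp [act, combine_zero, wordOfMask]
  · intro a b ha hb
    rw [act_xor, wordOfMask_xor, ha, hb, wordOfMask_xor]; rfl
  · intro i hi
    rw [act, combine_pow tbl i (h.1 ▸ hi), h.2 i hi, wordOfMask_two_pow]
    conv_rhs => rw [← idx_pt hi, wordOfMask_two_pow]
    funext p
    simp [Equiv.symm_apply_eq]

theorem act_lt {σ : Equiv.Perm GolayPt} {tbl : List ℕ} (h : IsTable σ tbl) (m : ℕ) : act tbl m < 2 ^ 24 := by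
  refine combine_lt tbl m fun r hr => ?_
  obtain ⟨i, hi, rfl⟩ := List.getElem_of_mem hr
  have := h.2 i (h.1 ▸ hi)
  rw [List.getD_eq_getElem _ _ hi] at this
  rw [this]
  exact Nat.pow_lt_pow_right (by norm_num) (idx_lt _)

/-- A table sending the generating rows into the code gives a member of the group. -/
theorem mem_M24_of_table {σ : Equiv.Perm GolayPt} {tbl : List ℕ} (h : IsTable σ tbl)
    (hrows : (rows.all fun r => inCode (act tbl r)) = true) : σ ∈ M24 := by
  have hcode : ∀ w ∈ golayCode, (fun p => w (σ.symm p)) ∈ golayCode := by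
    intro w hw
    rw [golayCode_eq_span_rows] at hw
    induction hw using Submodule.span_induction with
    | zero => exact golayCode.zero_mem
    | add x y _ _ hx hy => exact golayCode.add_mem hx hy
    | smul c x _ hx => exact golayCode.smul_mem c hx
    | mem x hx =>
      obtain ⟨r, hr, rfl⟩ := hx
      have hlt : r < 2 ^ 24 := by revert r; decide +kernel
      rw [← wordOfMask_act h hlt]
      exact wordOfMask_mem (List.all_eq_true.mp hrows r hr)
  apply Cfsg.Agent.Lib.Leech.mem_M24_of_isCode_map
  intro s hs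
  rw [Cfsg.Agent.Lib.Leech.isCode_iff] at hs ⊢
  convert hcode _ hs using 1
  funext p
  simp [Cfsg.Agent.Lib.Leech.ind]

end Cfsg.Agent.Lib.GolayPerm
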