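import Cfsg.Agent.Lib.GolayPerm.Basic
import Cfsg.Agent.Lib.GolayPerm.CyclicData

/-! Cyclic shift on 24-bit masks and its minimal ideals. -/

set_option autoImplicit false

namespace Cfsg.Agent.Lib.GolayPerm.Cyclic

open Cfsg Cfsg.Agent.Lib.Golay Cfsg.Agent.Lib.GolayPerm Cfsg.Agent.Lib.GolayPerm.CyclicData

/-- `x ↦ x + 1`, fixing the extra point. -/
def shiftPerm : Equiv.Perm GolayPt := Equiv.optionCongr (Equiv.addRight (1 : ZMod 23))

def tblShift : List ℕ := (List.range 24).map fun i => 2 ^ idx (shiftPerm (pt i))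
def tblInv : List ℕ := (List.range 24).map fun i => 2 ^ idx (projInvFun (pt i))
def tblTwist : List ℕ := (List.range 24).map fun i => 2 ^ idx (cubeTwistFun (pt i))

theorem isTable_shift : IsTable shiftPerm tblShift :=
  ⟨by simp [tblShift], fun i hi => by simp [tblShift, List.getD_eq_getElem?_getD, hi]⟩

theorem isTable_inv : IsTable projInv tblInv :=
  ⟨by simp [tblInv], fun i hi => by simp [tblInv, projInv, List.getD_eq_getElem?_getD, hi]⟩

theorem isTable_twist : IsTable cubeTwist tblTwist :=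
  ⟨by simp [tblTwist], fun i hi => by simp [tblTwist, cubeTwist, List.getD_eq_getElem?_getD, hi]⟩

theorem shift_mem : shiftPerm ∈ M24 := mem_M24_of_table isTable_shift (by decide +kernel)
theorem inv_mem : projInv ∈ M24 := mem_M24_of_table isTable_inv (by decide +kernel)
theorem twist_mem : cubeTwist ∈ M24 := mem_M24_of_table isTable_twist (by decide +kernel)

/-- Fast form of the shift on masks. -/
def rot (m : ℕ) : ℕ := ((m % 4194304) <<< 1) ^^^ ((m >>> 22) &&& 1) ^^^ (m &&& 8388608)

theorem rot_xor (a b : ℕ) : rot (a ^^^ b) = rot a ^^^ rot b := by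
  unfold rot
  rw [show (4194304 : ℕ) = 2 ^ 22 from rfl, Nat.xor_mod_two_pow, Nat.shiftLeft_xor_distrib,
    Nat.shiftRight_xor_distrib, Nat.and_xor_distrib_right, Nat.and_xor_distrib_right]
  ac_rfl

theorem rot_eq_act {m : ℕ} (hm : m < 2 ^ 24) : rot m = act tblShift m := by
  refine xor_induction (P := fun m => rot m = act tblShift m) (by decide +kernel) ?_ 24 ?_ m hm
  · intro a b ha hb; rw [rot_xor, act_xor, ha, hb]
  · intro i hi; revert i; decide +kernel

theorem rot_lt {m : ℕ} (hm : m < 2 ^ 24) : rot m < 2 ^ 24 := rot_eq_act hm ▸ act_lt isTable_shift m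

def orbit : ℕ → ℕ → List ℕ
  | 0, _ => []
  | n + 1, m => m :: orbit n (rot m)

/-- The product of the cyclic polynomial `k` with the word `m`. -/
def circ (k m : ℕ) : ℕ := combine (orbit 23 m) k

theorem circ_xor_left (a b m : ℕ) : circ (a ^^^ b) m = circ a m ^^^ circ b m := combine_xor _ a b

theorem circ_zero_left (m : ℕ) : circ 0 m = 0 := combine_zero _

theorem combine_orbit_xor : ∀ (n k a b : ℕ),
    combine (orbit n (a ^^^ b)) k = combine (orbit n a) k ^^^ combine (orbit n b) k
  | 0, k, a, b => by simp [orbit, combine]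
  | n + 1, k, a, b => by
    simp only [orbit, combine, rot_xor, combine_orbit_xor n]
    split_ifs
    · ac_rfl
    · simp

theorem circ_xor_right (k a b : ℕ) : circ k (a ^^^ b) = circ k a ^^^ circ k b := combine_orbit_xor 23 k a b

theorem circ_zero_right (k : ℕ) : circ k 0 = 0 := by
  have := circ_xor_right k 0 0
  simpa using this

theorem orbit_lt : ∀ (n : ℕ) {m : ℕ}, m < 2 ^ 24 → ∀ r ∈ orbit n m, r < 2 ^ 24
  | 0, _, _, r, hr => by simp [orbit] at hr
  | n + 1, m, hm, r, hr => by
    rcases List.mem_cons.1 hr with rfl | hr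
    · exact hm
    · exact orbit_lt n (rot_lt hm) r hr

theorem circ_lt (k : ℕ) {m : ℕ} (hm : m < 2 ^ 24) : circ k m < 2 ^ 24 := combine_lt _ _ (orbit_lt 23 hm)

theorem circ_mem {W : Submodule (ZMod 2) (GolayPt → ZMod 2)}
    (hW : ∀ w ∈ W, (fun p => w (shiftPerm.symm p)) ∈ W) (k : ℕ) {m : ℕ} (hm : m < 2 ^ 24)
    (h : wordOfMask m ∈ W) : wordOfMask (circ k m) ∈ W := by
  have : ∀ n, ∀ m < 2 ^ 24, wordOfMask m ∈ W → ∀ r ∈ orbit n m, wordOfMask r ∈ W := by
    intro n
    induction n with
    | zero => intro m _ _ r hr; simp [orbit] at hr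
    | succ n ih =>
      intro m hm h r hr
      rcases List.mem_cons.1 hr with rfl | hr
      · exact h
      · refine ih (rot m) (rot_lt hm) ?_ r hr
        rw [rot_eq_act hm, wordOfMask_act isTable_shift hm]
        exact hW _ h
  exact combine_mem _ _ (this 23 m hm h)

def eA : ℕ := 340831
def eB : ℕ := 8047777
def uMask : ℕ := 8388607
def infMask : ℕ := 8388608
def allMask : ℕ := 16777215

theorem eA_lt : eA < 2 ^ 24 := by decide
theorem eB_lt : eB < 2 ^ 24 := by decide

theorem decompose {m : ℕ} (hm : m < 2 ^ 24) :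
    circ eA m ^^^ circ eB m ^^^ circ uMask m = m := by
  refine xor_induction (P := fun m => circ eA m ^^^ circ eB m ^^^ circ uMask m = m) (by decide +kernel) ?_ 24 ?_ m hm
  · intro a b ha hb
    conv_rhs => rw [← ha, ← hb]
    simp only [circ_xor_right]
    ac_rfl
  · intro i hi; revert i; decide +kernel

theorem trivial_part {m : ℕ} (hm : m < 2 ^ 24) :
    circ uMask m = 0 ∨ circ uMask m = uMask ∨ circ uMask m = infMask ∨ circ uMask m = allMask := by
  refine xor_induction (P := fun m => circ uMask m = 0 ∨ circ uMask m = uMask ∨ circ uMask m = infMask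
    ∨ circ uMask m = allMask) (Or.inl (circ_zero_right _)) ?_ 24 ?_ m hm
  · intro a b ha hb
    rw [circ_xor_right]
    rcases ha with h | h | h | h <;> rcases hb with h' | h' | h' | h' <;> rw [h, h'] <;> decide
  · intro i hi; revert i; decide +kernel

/-- The ideal of an idempotent is parametrised by 11 bits. -/
theorem ideal_reduce (e : ℕ) (red : List ℕ) (hlen : red.length = 23)
    (hred : ∀ i < 23, circ (2 ^ i) e = circ (red.getD i 0) e ∧ red.getD i 0 < 2 ^ 11)
    (hproj : ∀ i < 24, ∃ j < 2 ^ 23, circ e (2 ^ i) = circ j e)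
    {m : ℕ} (hm : m < 2 ^ 24) : ∃ j < 2 ^ 11, circ e m = circ j e := by
  have hj : ∀ j < 2 ^ 23, ∃ j' < 2 ^ 11, circ j e = circ j' e := by
    refine xor_induction ⟨0, by norm_num, rfl⟩ ?_ 23 ?_
    · rintro a b ⟨a', ha, ea⟩ ⟨b', hb, eb⟩
      exact ⟨a' ^^^ b', Nat.xor_lt_two_pow ha hb, by rw [circ_xor_left, circ_xor_left, ea, eb]⟩
    · exact fun i hi => ⟨_, (hred i hi).2, (hred i hi).1⟩
  have : ∃ j < 2 ^ 23, circ e m = circ j e := by
    refine xor_induction (P := fun m => ∃ j < 2 ^ 23, circ e m = circ j e)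
      ⟨0, by norm_num, by rw [circ_zero_right, circ_zero_left]⟩ ?_ 24 hproj m hm
    rintro a b ⟨a', ha, ea⟩ ⟨b', hb, eb⟩
    exact ⟨a' ^^^ b', Nat.xor_lt_two_pow ha hb, by rw [circ_xor_left, circ_xor_right, ea, eb]⟩
  obtain ⟨j, hjlt, hje⟩ := this
  obtain ⟨j', h1, h2⟩ := hj j hjlt
  exact ⟨j', h1, hje.trans h2⟩

def checkInv (e : ℕ) (inv : List ℕ) : Bool :=
  (inv.length == 2048) &&
    ((List.range 2048).zip inv).all fun p => (circ p.1 e == 0) || (circ p.2 (circ p.1 e) == e)

theorem checkInv_A : checkInv eA invA = true := by decide +kernel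
theorem checkInv_B : checkInv eB invB = true := by decide +kernel

theorem checkInv_spec {e : ℕ} {inv : List ℕ} (h : checkInv e inv = true) {j : ℕ} (hj : j < 2 ^ 11)
    (h0 : circ j e ≠ 0) : ∃ k, circ k (circ j e) = e := by
  simp only [checkInv, Bool.and_eq_true, beq_iff_eq, List.all_eq_true, Bool.or_eq_true] at h
  have hlen : j < ((List.range 2048).zip inv).length := by simp [h.1]; omega
  have := h.2 _ (List.getElem_mem hlen)
  rw [List.getElem_zip, List.getElem_range] at this
  exact ⟨_, this.resolve_left h0⟩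

theorem gen_A {m : ℕ} (hm : m < 2 ^ 24) :
    (∃ j, circ eA m = circ j eA) ∧ (circ eA m ≠ 0 → ∃ k, circ k (circ eA m) = eA) := by
  obtain ⟨j, hj, he⟩ := ideal_reduce eA redA (by decide +kernel) (by decide +kernel)
    (fun i hi => ⟨if i < 23 then 2 ^ i else 0, by
      split_ifs with h
      · exact Nat.pow_lt_pow_right (by norm_num) h
      · norm_num, by revert i; decide +kernel⟩) hm
  exact ⟨⟨j, he⟩, fun h0 => he ▸ checkInv_spec checkInv_A hj (he ▸ h0)⟩

theorem gen_B {m : ℕ} (hm : m < 2 ^ 24) :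
    (∃ j, circ eB m = circ j eB) ∧ (circ eB m ≠ 0 → ∃ k, circ k (circ eB m) = eB) := by
  obtain ⟨j, hj, he⟩ := ideal_reduce eB redB (by decide +kernel) (by decide +kernel)
    (fun i hi => ⟨if i < 23 then 2 ^ i else 0, by
      split_ifs with h
      · exact Nat.pow_lt_pow_right (by norm_num) h
      · norm_num, by revert i; decide +kernel⟩) hm
  exact ⟨⟨j, he⟩, fun h0 => he ▸ checkInv_spec checkInv_B hj (he ▸ h0)⟩

end Cfsg.Agent.Lib.GolayPerm.Cyclic
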